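import Groth.Agent.RegTilde.Mumford
import Groth.Agent.Nakai.SurfSeq
import Groth.Agent.S1664

/-!
The Castelnuovo-Mumford lemma for a globally generated invertible module on a proper scheme.
-/

set_option autoImplicit false
set_option backward.isDefEq.respectTransparency false
set_option linter.style.haveILetI false
set_option linter.unusedSectionVars false

universe u

open CategoryTheory CategoryTheory.Limits AlgebraicGeometry TopologicalSpace Opposite
open Groth.Agent.QC (res resO res_res res_self res_smul)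
open Groth.Agent.RegKos
open TMul (IsGen val homOf)

noncomputable section

namespace Groth.Agent.CMKoszul

attribute [local instance] Nakai.clMonoid

variable {X : Scheme.{u}}

theorem hh_of_isZero {Z : X.Modules} (hZ : IsZero Z) (q : ℕ) : Subsingleton (Coh.HH X Z q) :=
  CohFinite.subsingleton_of_split Z (fun e : Fin 0 => e.elim0) (fun e => e.elim0) (fun e => e.elim0)
    (hZ.eq_of_src _ _) q fun e => e.elim0

variable {L L' : X.Modules} (η : CohB1.tensorMod L' L ≅ Coh.structureModule X)

theorem kos_zero (G : X.Modules) : ∀ l : List Γ(L, ⊤), (kos η G l).obj 0 = G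
  | [] => rfl
  | _ :: l => kos_zero G l

/-- The terms of the Koszul complex have the cohomology of sums of twists. -/
theorem kos_vanish (hL' : PicF.IsInvertible L') (G : X.Modules) (q : ℕ) : ∀ (l : List Γ(L, ⊤)) (s : ℕ) (T : X.Modules),
    PicF.IsInvertible T →
    (s ≤ l.length → Subsingleton (Coh.HH X (CohB1.tensorMod (CohB1.tensorMod G (CohB1.tensorPow L' s)) T) q)) →
    Subsingleton (Coh.HH X (CohB1.tensorMod ((kos η G l).obj s) T) q)
  | [], 0, T, hT, h => by
    obtain ⟨e⟩ := Nakai.iso_of_cl (show PicF.cl (CohB1.tensorMod (CohB1.tensorMod G (CohB1.tensorPow L' 0)) T) =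
        PicF.cl (CohB1.tensorMod G T) by
      simp only [Nakai.cl_tensor, Nakai.cl_pow, pow_zero, mul_one])
    exact CohQC.hh_subsingleton_of_iso e _ (h le_rfl)
  | [], s + 1, T, hT, h => by
    refine hh_of_isZero ?_ q
    have hz : (𝟙 ((kos η G []).obj (s + 1))) = 0 := initialIsInitial.isZero.eq_of_src _ _
    rw [IsZero.iff_id_eq_zero, ← CohFinite.tmap_id, hz, CohFinite.tmap_zero]
  | b :: l, 0, T, hT, h => kos_vanish hL' G q l 0 T hT fun _ => h (Nat.zero_le _)
  | b :: l, s + 1, T, hT, h => by
    refine CohQC.subsingleton_hh_middle (CohFinite.shortExact_tmap hT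
      (ShortComplex.Splitting.ofHasBinaryBiproduct ((kos η G l).obj (s + 1))
        (CohB1.tensorMod ((kos η G l).obj s) L')).shortExact) q ?_ ?_
    · exact kos_vanish hL' G q l (s + 1) T hT fun hs => h (Nat.le_succ_of_le hs)
    · refine CohQC.hh_subsingleton_of_iso (TMul.assocIso _ L' T).symm q ?_
      refine kos_vanish hL' G q l s _ (TMul.isInvertible_tensorMod hL' hT) fun hs => ?_
      obtain ⟨e⟩ := Nakai.iso_of_cl (show
          PicF.cl (CohB1.tensorMod (CohB1.tensorMod G (CohB1.tensorPow L' (s + 1))) T) =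
          PicF.cl (CohB1.tensorMod (CohB1.tensorMod G (CohB1.tensorPow L' s)) (CohB1.tensorMod L' T)) by
        simp only [Nakai.cl_tensor, Nakai.cl_pow, pow_succ]; ac_rfl)
      exact CohQC.hh_subsingleton_of_iso e _ (h (Nat.succ_le_succ hs))

theorem isZero_obj_of_length_lt (G : X.Modules) : ∀ (l : List Γ(L, ⊤)) (s : ℕ), l.length < s →
    IsZero ((kos η G l).obj s)
  | [], 0, h => absurd h (by simp)
  | [], s + 1, _ => initialIsInitial.isZero
  | b :: l, 0, h => absurd h (Nat.not_lt_zero _)
  | b :: l, s + 1, h => by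
    simp only [List.length_cons, Nat.add_lt_add_iff_right] at h
    refine (IsZero.of_iso ?_ (Iso.refl _) : IsZero ((kos η G l).obj (s + 1) ⊞ CohB1.tensorMod ((kos η G l).obj s) L'))
    rw [IsZero.iff_id_eq_zero]
    refine biprod.hom_ext' _ _ ((isZero_obj_of_length_lt G l (s + 1) (by omega)).eq_of_src _ _) ?_
    have hz : IsZero (CohB1.tensorMod ((kos η G l).obj s) L') := by
      rw [IsZero.iff_id_eq_zero, ← CohFinite.tmap_id, (isZero_obj_of_length_lt G l s h).eq_of_src (𝟙 _) 0,
        CohFinite.tmap_zero]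
    exact hz.eq_of_src _ _

include η in
/-- Multiplication by sections generating an invertible module is surjective under the vanishing of the twists. -/
theorem mem_pureSums (hL : PicF.IsInvertible L) (hL' : PicF.IsInvertible L') (G : X.Modules) (l : List Γ(L, ⊤))
    (hl : ∀ x : X, ∃ (U : X.Opens), x ∈ U ∧ ∃ b ∈ l, IsGen (res L (le_top : U ≤ ⊤) b))
    (hv : ∀ q : ℕ, 1 ≤ q → q + 1 ≤ l.length →
      Subsingleton (Coh.HH X (CohB1.tensorMod (CohB1.tensorMod G (CohB1.tensorPow L' (q + 1))) L) q))
    (z : Γ(CohB1.tensorMod G L, ⊤)) : z ∈ Mumford.pureSums G L := by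
  choose U hxU hU using hl
  set C := kos η G l with hC
  have hloc : ∀ x, LocEx C (U x) := fun x => locEx_kos η hL' G l (hU x)
  haveI : Epi (C.d 0) := epi_of_locEx C U hxU hloc
  have key : ∀ (m q : ℕ), l.length ≤ q + m →
      Subsingleton (Coh.HH X (CohB1.tensorMod (kernel (C.d q)) L) (q + 1)) := fun m => by
    induction m with
    | zero =>
      intro q hq
      refine hh_of_isZero ?_ _
      have hz : IsZero (kernel (C.d q)) :=
        IsZero.of_mono (kernel.ι (C.d q)) (isZero_obj_of_length_lt η G l (q + 1) (by omega))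
      rw [IsZero.iff_id_eq_zero, ← CohFinite.tmap_id, hz.eq_of_src (𝟙 _) 0, CohFinite.tmap_zero]
    | succ m ih =>
      intro q hq
      let κ : C.obj (q + 1 + 1) ⟶ kernel (C.d q) := kernel.lift (C.d q) (C.d (q + 1)) (C.dd q)
      haveI : Epi κ := ((ShortComplex.mk _ _ (C.dd q)).exact_iff_epi_kernel_lift).1
        (exact_of_locEx C U hxU hloc q)
      have hS : (ShortComplex.mk (kernel.ι (C.d (q + 1))) κ (by
          rw [← cancel_mono (kernel.ι (C.d q)), Category.assoc, kernel.lift_ι, kernel.condition, zero_comp])).ShortExact :=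
        { exact := ShortComplex.exact_of_f_is_kernel _ (KernelFork.IsLimit.ofι _ _
            (fun φ hφ => kernel.lift (C.d (q + 1)) φ (by
              rw [← kernel.lift_ι (C.d q) (C.d (q + 1)) (C.dd q), ← Category.assoc, show φ ≫ κ = 0 from hφ, zero_comp]))
            (fun φ hφ => kernel.lift_ι _ _ _)
            (fun φ hφ b hb => by rw [← cancel_mono (kernel.ι (C.d (q + 1))), kernel.lift_ι]; exact hb)) }
      refine CohFinite.subsingleton_of_shortExact (CohFinite.shortExact_tmap hL hS) (q + 1) ?_ (ih (q + 1) (by omega))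
      exact kos_vanish η hL' G (q + 1) l (q + 1 + 1) L hL fun hs => hv (q + 1) (Nat.succ_le_succ (Nat.zero_le _)) hs
  have hS : (ShortComplex.mk (kernel.ι (C.d 0)) (C.d 0) (kernel.condition _)).ShortExact :=
    { exact := ShortComplex.exact_of_f_is_kernel _ (kernelIsKernel _) }
  have hsurj := CohQC.sections_surjective_top (CohQC.seq_shortExact (CohFinite.shortExact_tmap hL hS))
    (key l.length 0 (by omega))
  revert z
  suffices h : ∀ (H : X.Modules), C.obj 0 = H → ∀ z : Γ(CohB1.tensorMod H L, ⊤), z ∈ Mumford.pureSums H L from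
    h G (kos_zero η G l)
  rintro _ rfl z
  obtain ⟨w, rfl⟩ := hsurj z
  exact Mumford.kos_range η hL G l w

variable (k : Type u) [Field k] [X.Over (Spec (CommRingCat.of k))] [IsProper (X ↘ Spec (CommRingCat.of k))]

attribute [local instance] CurveRR.secMod

/-- A basis of the sections of a globally generated invertible module generates it everywhere. -/
theorem exists_list (hL : PicF.IsInvertible L) (hg : Curv2.IsGloballyGenerated L) :
    ∃ l : List Γ(L, ⊤), l.length = Module.finrank k (Coh.HH X L 0) ∧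
      ∀ x : X, ∃ (U : X.Opens), x ∈ U ∧ ∃ b ∈ l, IsGen (res L (le_top : U ≤ ⊤) b) := by
  haveI := CurveRR.isNoetherian_of_proper k X
  haveI : Module.Finite k (Coh.HH X L 0) := CohFinite.finite_proper k X _ (CurveRR.isCoh_of_inv hL) 0
  haveI : Module.Finite k Γ(L, ⊤) := Module.Finite.equiv (CurveRR.secH0 (k := k) L).symm
  let v := Module.finBasis k Γ(L, ⊤)
  refine ⟨List.ofFn v, by rw [List.length_ofFn, (CurveRR.secH0 (k := k) L).finrank_eq], fun x => ?_⟩
  suffices h : ∃ i, x ∈ CohB1.genLocus L (homOf (v i)) by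
    obtain ⟨i, hi⟩ := h
    refine ⟨_, hi, v i, List.mem_ofFn.2 ⟨i, rfl⟩, ?_⟩
    have h1 := TMul.isGen_genLocus (homOf (v i))
    rwa [TMul.val_homOf] at h1
  by_contra hno
  push Not at hno
  obtain ⟨t, ht⟩ := Groth.Agent.S1664.gen_of_globallyGenerated hL hg x
  obtain ⟨U, g, hxU, hgen⟩ := TMul.exists_isGen hL x
  choose f hf using fun i => (hgen U le_rfl).2 (res L (le_top : U ≤ ⊤) (v i))
  obtain ⟨c, hc⟩ := (hgen U le_rfl).2 (val t U)
  simp only [res_self] at hf hc
  have hu := (TMul.mem_genLocus_iff_isUnit t hgen hc.symm hxU).1 ht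
  have hval : val t U = res L (le_top : U ≤ ⊤) (val t ⊤) := by
    conv_lhs => rw [← CohFinite.homOf_val t, TMul.val_homOf]
  have hsum : c = ∑ i, CurveRR.cst k X U (v.repr (val t ⊤) i) * f i := by
    refine (hgen U le_rfl).1 ?_
    simp only [res_self]
    rw [hc, hval, Finset.sum_smul]
    conv_lhs => rw [← v.sum_repr (val t ⊤)]
    rw [map_sum]
    refine Finset.sum_congr rfl fun i _ => ?_
    rw [mul_smul, hf i]
    exact (CurveRR.resL (k := k) L (le_top : U ≤ ⊤)).map_smul _ _
  have hm : ∀ i, (X.presheaf.germ U x hxU).hom (f i) ∈ IsLocalRing.maximalIdeal (X.presheaf.stalk x) := fun i =>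
    (IsLocalRing.mem_maximalIdeal _).2 fun hi => hno i ((TMul.mem_genLocus_iff_isUnit (homOf (v i)) hgen
      (by rw [TMul.val_homOf]; exact (hf i).symm) hxU).2 hi)
  refine (IsLocalRing.mem_maximalIdeal _).1 ?_ hu
  rw [hsum, map_sum]
  exact Ideal.sum_mem _ fun i _ => by rw [map_mul]; exact Ideal.mul_mem_left _ _ (hm i)

end Groth.Agent.CMKoszul
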